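import Groth.Prelude.Def_GSzMilK
import Mathlib.GroupTheory.Perm.Fin
import Mathlib.GroupTheory.Perm.Sign
import Mathlib.LinearAlgebra.Multilinear.Curry
import Mathlib.Tactic.Module

/-! Generators and elementary relations in Milnor K-groups. -/

universe u v w

namespace Groth.Agent.MilKLib

open MilK Function

variable {F : Type u} [Field F] {n : ℕ}

/-- The symbol as a multilinear map. -/
noncomputable def symM (F : Type u) [Field F] (n : ℕ) :
    MultilinearMap ℤ (fun _ : Fin n => Additive Fˣ) (K F n) :=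
  (mk F n).toIntLinearMap.compMultilinearMap (PiTensorProduct.tprod ℤ)

theorem symM_apply (x : Fin n → Additive Fˣ) : symM F n x = symbol fun i => (x i).toMul := rfl

theorem symbol_def (x : Fin n → Fˣ) : symbol x = symM F n fun i => Additive.ofMul (x i) := rfl

theorem ofMul_update (x : Fin n → Fˣ) (i : Fin n) (a : Fˣ) :
    (fun j => Additive.ofMul (update x i a j)) =
      update (fun j => Additive.ofMul (x j)) i (Additive.ofMul a) := by
  funext j
  rcases eq_or_ne j i with rfl | h <;> simp [*]

theorem symbol_update_mul (x : Fin n → Fˣ) (i : Fin n) (a b : Fˣ) :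
    symbol (update x i (a * b)) = symbol (update x i a) + symbol (update x i b) := by
  simp only [symbol_def, ofMul_update, ofMul_mul, MultilinearMap.map_update_add]

theorem symbol_update_one (x : Fin n → Fˣ) (i : Fin n) : symbol (update x i 1) = 0 := by
  simp only [symbol_def, ofMul_update, ofMul_one, MultilinearMap.map_update_zero]

theorem symbol_eq_zero_of_one (x : Fin n → Fˣ) (i : Fin n) (h : x i = 1) : symbol x = 0 := by
  rw [← update_eq_self i x, h, symbol_update_one]

theorem symbol_update_zpow (x : Fin n → Fˣ) (i : Fin n) (a : Fˣ) (k : ℤ) :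
    symbol (update x i (a ^ k)) = k • symbol (update x i a) := by
  simp only [symbol_def, ofMul_update, ofMul_zpow, MultilinearMap.map_update_smul]

theorem symbol_update_inv (x : Fin n → Fˣ) (i : Fin n) (a : Fˣ) :
    symbol (update x i a⁻¹) = -symbol (update x i a) := by
  rw [eq_neg_iff_add_eq_zero, ← symbol_update_mul, inv_mul_cancel, symbol_update_one]

theorem symbol_update_div (x : Fin n → Fˣ) (i : Fin n) (a b : Fˣ) :
    symbol (update x i (a / b)) = symbol (update x i a) - symbol (update x i b) := by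
  rw [div_eq_mul_inv, symbol_update_mul, symbol_update_inv, sub_eq_add_neg]

theorem induction_symbol {P : K F n → Prop} (x : K F n) (hsym : ∀ y, P (symbol y)) (h0 : P 0)
    (hneg : ∀ a, P a → P (-a)) (hadd : ∀ a b, P a → P b → P (a + b)) : P x := by
  obtain ⟨t, rfl⟩ := mk_surjective F n x
  induction t using PiTensorProduct.induction_on with
  | smul_tprod r y =>
    rw [map_zsmul]
    induction r with
    | zero => simp only [Nat.cast_zero, zero_zsmul]; exact h0
    | succ i ih => rw [add_zsmul, one_zsmul]; exact hadd _ _ ih (hsym fun i => (y i).toMul)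
    | pred i ih =>
      rw [sub_zsmul, one_zsmul, ← sub_eq_add_neg]
      rw [sub_eq_add_neg]; exact hadd _ _ ih (hneg _ (hsym fun i => (y i).toMul))
  | add a b ha hb => rw [map_add]; exact hadd _ _ ha hb

theorem mem_of_symbol_mem {H : AddSubgroup (K F n)} (h : ∀ y, symbol y ∈ H) (x : K F n) : x ∈ H :=
  induction_symbol x h H.zero_mem (fun _ => H.neg_mem) (fun _ _ => H.add_mem)

theorem closure_symbol : AddSubgroup.closure (Set.range (symbol (F := F) (n := n))) = ⊤ :=
  eq_top_iff.mpr fun x _ => mem_of_symbol_mem (fun y => AddSubgroup.subset_closure (Set.mem_range_self y)) x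

theorem hom_ext {M : Type w} [AddCommGroup M] {f g : K F n →+ M}
    (h : ∀ x, f (symbol x) = g (symbol x)) : f = g :=
  AddMonoidHom.eq_of_eqOn_dense closure_symbol (by rintro _ ⟨x, rfl⟩; exact h x)

theorem symbol_eq_zero_of_add_eq_one (x : Fin n → Fˣ) {i j : Fin n} (hij : i ≠ j)
    (h : (x i : F) + (x j : F) = 1) : symbol x = 0 := by
  rcases lt_or_gt_of_ne hij with h' | h'
  · exact symbol_eq_zero_of_isSteinberg x ⟨i, j, h', h⟩
  · exact symbol_eq_zero_of_isSteinberg x ⟨j, i, h', (add_comm _ _).trans h⟩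

theorem symbol_eq_zero_of_eq_neg (x : Fin n → Fˣ) {i j : Fin n} (hij : i ≠ j)
    (h : x j = -x i) : symbol x = 0 := by
  by_cases h1 : x i = 1
  · exact symbol_eq_zero_of_one x i h1
  have ha : (x i : F) ≠ 1 := fun e => h1 (Units.ext e)
  have hinv : ((x i)⁻¹ : Fˣ) ≠ 1 := fun e => h1 (inv_eq_one.mp e)
  let u : Fˣ := Units.mk0 (1 - (x i : F)) (sub_ne_zero.mpr ha.symm)
  let v : Fˣ := Units.mk0 (1 - (((x i)⁻¹ : Fˣ) : F)) (sub_ne_zero.mpr fun e => hinv (Units.ext e.symm))
  have he : x j = u / v := by
    rw [h, eq_div_iff_mul_eq']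
    ext
    simp [u, v]
    field_simp
    ring
  have h2 : symbol (update x j u) = 0 :=
    symbol_eq_zero_of_add_eq_one _ hij (by simp [hij, u])
  have h3 : symbol (update x j v) = 0 := by
    have h4 : symbol (update (update x j v) i (x i)⁻¹) = 0 :=
      symbol_eq_zero_of_add_eq_one _ hij (by simp [hij.symm, v])
    rw [symbol_update_inv, neg_eq_zero, update_comm hij.symm, update_eq_self] at h4
    exact h4
  rw [← update_eq_self j x, he, symbol_update_div, h2, h3, sub_zero]

theorem symbol_self (x : Fin n → Fˣ) {i j : Fin n} (hij : i ≠ j) (h : x j = x i) :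
    symbol x = symbol (update x j (-1)) := by
  have h1 : symbol (update x j (-x i)) = 0 :=
    symbol_eq_zero_of_eq_neg _ hij (by simp [hij])
  rw [← neg_one_mul, symbol_update_mul, ← h, update_eq_self] at h1
  have h2 : symbol (update x j ((-1 : Fˣ) * -1)) = 0 := by simp [symbol_update_one]
  rw [symbol_update_mul] at h2
  exact (neg_eq_of_add_eq_zero_right h1).symm.trans (neg_eq_of_add_eq_zero_right h2)

theorem symbol_swap (x : Fin n → Fˣ) {i j : Fin n} (hij : i ≠ j) :
    symbol (x ∘ Equiv.swap i j) = -symbol x := by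
  have key : ∀ a b : Fˣ, symbol (update (update x i a) j b) + symbol (update (update x i b) j a) = 0 := by
    intro a b
    have h := symbol_eq_zero_of_eq_neg (update (update x i (a * b)) j (-(a * b))) hij (by simp [hij])
    have hz : ∀ c : Fˣ, symbol (update (update x i c) j (-c)) = 0 := fun c =>
      symbol_eq_zero_of_eq_neg _ hij (by simp [hij])
    rw [show -(a * b) = -a * b by simp, update_comm hij, symbol_update_mul,
      ← update_comm hij, ← update_comm hij, symbol_update_mul, symbol_update_mul, hz, zero_add] at h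
    have h' : symbol (update (update x i b) j (-a * b)) = symbol (update (update x i b) j a) := by
      rw [show -a * b = a * -b by simp, symbol_update_mul, hz, add_zero]
    rw [← h', symbol_update_mul]
    exact h
  rw [eq_neg_iff_add_eq_zero]
  convert key (x j) (x i) using 3
  · funext k
    rcases eq_or_ne k j with rfl | hk
    · simp
    rcases eq_or_ne k i with rfl | hk'
    · simp [hk]
    simp [hk, hk', Equiv.swap_apply_of_ne_of_ne hk' hk]
  · simp [update_eq_self]

theorem symbol_perm (σ : Equiv.Perm (Fin n)) : ∀ x : Fin n → Fˣ,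
    symbol (x ∘ σ) = ((Equiv.Perm.sign σ : ℤˣ) : ℤ) • symbol x := by
  induction σ using Equiv.Perm.swap_induction_on with
  | one => intro x; simp
  | swap_mul f a b hab ih =>
    intro x
    rw [show x ∘ ⇑(Equiv.swap a b * f) = (x ∘ Equiv.swap a b) ∘ ⇑f from rfl, ih, symbol_swap x hab,
      Equiv.Perm.sign_mul, Equiv.Perm.sign_swap hab]
    simp

/-! ### Multiplication on the left by a unit -/

theorem cons_update (a : Fˣ) (x : Fin n → Fˣ) (i : Fin n) (b : Fˣ) :
    Fin.cons (α := fun _ => Fˣ) a (update x i b) = update (Fin.cons a x) i.succ b :=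
  Fin.cons_update ..

theorem isSteinberg_cons (a : Fˣ) {x : Fin n → Fˣ} (h : IsSteinberg F x) :
    IsSteinberg F (Fin.cons a x) :=
  let ⟨i, j, hij, hs⟩ := h
  ⟨i.succ, j.succ, Fin.succ_lt_succ_iff.mpr hij, by simpa using hs⟩

/-- `x ↦ {a} · x`. -/
noncomputable def lmul (n : ℕ) (a : Fˣ) : K F n →+ K F (n + 1) :=
  MilK.lift ((symM F (n + 1)).curryLeft (Additive.ofMul a)) fun x hx => by
    rw [MultilinearMap.curryLeft_apply, symM_apply,
      show (fun i => (Fin.cons (Additive.ofMul a) (fun i => Additive.ofMul (x i)) : Fin (n + 1) → Additive Fˣ) i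
        |>.toMul) = Fin.cons a x by funext i; cases i using Fin.cases <;> simp]
    exact symbol_eq_zero_of_isSteinberg _ (isSteinberg_cons a hx)

@[simp]
theorem lmul_symbol (a : Fˣ) (x : Fin n → Fˣ) : lmul n a (symbol x) = symbol (Fin.cons a x) := by
  rw [lmul, lift_symbol, MultilinearMap.curryLeft_apply, symM_apply]
  congr 1

theorem lmul_mul (a b : Fˣ) (x : K F n) : lmul n (a * b) x = lmul n a x + lmul n b x := by
  refine DFunLike.congr_fun (hom_ext (g := lmul n a + lmul n b) fun x => ?_) x
  simp only [AddMonoidHom.add_apply, lmul_symbol]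
  have h := symbol_update_mul (Fin.cons (1 : Fˣ) x) 0 a b
  simpa [Fin.update_cons_zero] using h

theorem lmul_one (x : K F n) : lmul n (1 : Fˣ) x = 0 := by
  simpa using lmul_mul (1 : Fˣ) 1 x

/-- `a ↦ ({a} · _)`. -/
noncomputable def lmulHom (n : ℕ) : Additive Fˣ →+ K F n →+ K F (n + 1) :=
  AddMonoidHom.mk' (fun a => lmul n a.toMul) fun a b => AddMonoidHom.ext (lmul_mul a.toMul b.toMul)

theorem lmul_zpow (a : Fˣ) (k : ℤ) (x : K F n) : lmul n (a ^ k) x = k • lmul n a x := by
  have := DFunLike.congr_fun ((lmulHom (F := F) n).map_zsmul k (Additive.ofMul a)) x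
  simpa [lmulHom] using this

theorem lmul_inv (a : Fˣ) (x : K F n) : lmul n a⁻¹ x = -lmul n a x := by
  rw [← zpow_neg_one, lmul_zpow, neg_one_zsmul]

theorem lmul_div (a b : Fˣ) (x : K F n) : lmul n (a / b) x = lmul n a x - lmul n b x := by
  rw [div_eq_mul_inv, lmul_mul, lmul_inv, sub_eq_add_neg]

theorem lmul_anticomm (a b : Fˣ) (x : K F n) :
    lmul (n + 1) a (lmul n b x) = -lmul (n + 1) b (lmul n a x) := by
  refine DFunLike.congr_fun (hom_ext (f := (lmul (n + 1) a).comp (lmul n b))
    (g := -((lmul (n + 1) b).comp (lmul n a))) fun x => ?_) x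
  simp only [AddMonoidHom.neg_apply, AddMonoidHom.comp_apply, lmul_symbol]
  rw [← symbol_swap (Fin.cons b (Fin.cons a x)) (show (0 : Fin (n + 2)) ≠ (0 : Fin (n + 1)).succ from
    (Fin.succ_ne_zero _).symm)]
  congr 1
  funext k
  cases k using Fin.cases with
  | zero => simp
  | succ k =>
    cases k using Fin.cases with
    | zero => simp
    | succ k =>
      rw [comp_apply, Equiv.swap_apply_of_ne_of_ne (Fin.succ_ne_zero _)
        (fun e => Fin.succ_ne_zero k (Fin.succ_injective _ e))]
      simp

theorem lmul_lmul_of_add_eq_one (a b : Fˣ) (h : (a : F) + b = 1) (x : K F n) :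
    lmul (n + 1) a (lmul n b x) = 0 := by
  refine DFunLike.congr_fun (hom_ext (f := (lmul (n + 1) a).comp (lmul n b)) (g := 0) fun x => ?_) x
  simp only [AddMonoidHom.comp_apply, lmul_symbol, AddMonoidHom.zero_apply]
  exact symbol_eq_zero_of_add_eq_one _ (i := 0) (j := 1) (by simp) (by simpa using h)

theorem lmul_lmul_neg (a : Fˣ) (x : K F n) : lmul (n + 1) a (lmul n (-a) x) = 0 := by
  refine DFunLike.congr_fun (hom_ext (f := (lmul (n + 1) a).comp (lmul n (-a))) (g := 0) fun x => ?_) x
  simp only [AddMonoidHom.comp_apply, lmul_symbol, AddMonoidHom.zero_apply]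
  exact symbol_eq_zero_of_eq_neg _ (i := 0) (j := 1) (by simp) (by simp)

theorem lmul_lmul_self (a : Fˣ) (x : K F n) :
    lmul (n + 1) a (lmul n a x) = lmul (n + 1) a (lmul n (-1) x) := by
  have h := lmul_lmul_neg a x
  rw [← neg_one_mul, lmul_mul, map_add, add_eq_zero_iff_eq_neg] at h
  have h2 : lmul (n + 1) a (lmul n ((-1 : Fˣ) * -1) x) = 0 := by simp [lmul_one]
  rw [lmul_mul, map_add, add_eq_zero_iff_eq_neg] at h2
  rw [← neg_eq_iff_eq_neg.mpr h]
  exact h2.symm

/-! ### Low degrees, product and functoriality -/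

theorem symbol_fin_zero (x : Fin 0 → Fˣ) : symbol x = symbol ![] := congrArg _ (Subsingleton.elim _ _)

theorem cast_self {h : n = n} (x : K F n) : cast F h x = x := rfl

theorem lmul_eq_mul (a : Fˣ) (x : K F n) :
    lmul n a x = cast F (Nat.add_comm 1 n) (mul F 1 n (symbol ![a]) x) := by
  refine DFunLike.congr_fun (hom_ext
    (g := (cast F (Nat.add_comm 1 n)).toAddMonoidHom.comp (mul F 1 n (symbol ![a]))) fun x => ?_) x
  simp only [AddMonoidHom.comp_apply, lmul_symbol, AddEquiv.coe_toAddMonoidHom, mul_symbol_symbol, cast_symbol]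
  congr 1
  rw [show (![a] : Fin 1 → Fˣ) = Fin.cons a Fin.elim0 from funext fun i => by fin_cases i; rfl,
    Fin.append_cons, Fin.elim0_append]
  funext i
  cases i using Fin.cases <;> simp [Function.comp_def]

variable {E : Type v} [Field E] {G : Type w} [Field G]

@[simp]
theorem map_id (x : K F n) : MilK.map (RingHom.id F) n x = x :=
  DFunLike.congr_fun (hom_ext (g := AddMonoidHom.id _) fun x => by
    simp only [map_symbol, AddMonoidHom.id_apply]; congr 1) x

theorem map_map (φ : F →+* E) (ψ : E →+* G) (x : K F n) :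
    MilK.map ψ n (MilK.map φ n x) = MilK.map (ψ.comp φ) n x :=
  DFunLike.congr_fun (hom_ext (f := (MilK.map ψ n).comp (MilK.map φ n)) fun x => by
    simp only [AddMonoidHom.comp_apply, map_symbol]; congr 1) x

theorem map_lmul (φ : F →+* E) (a : Fˣ) (x : K F n) :
    MilK.map φ (n + 1) (lmul n a x) = lmul n (Units.map (φ : F →* E) a) (MilK.map φ n x) :=
  DFunLike.congr_fun (hom_ext (f := (MilK.map φ (n + 1)).comp (lmul n a))
    (g := (lmul n (Units.map (φ : F →* E) a)).comp (MilK.map φ n)) fun x => by
      simp only [AddMonoidHom.comp_apply, lmul_symbol, map_symbol]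
      congr 1
      funext i
      cases i using Fin.cases <;> simp) x

theorem mem_closure_lmul {H : AddSubgroup (K F (n + 1))}
    (h : ∀ (a : Fˣ) (x : K F n), lmul n a x ∈ H) (x : K F (n + 1)) : x ∈ H :=
  mem_of_symbol_mem (fun y => by
    simpa [Fin.cons_self_tail] using h (y 0) (symbol (Fin.tail y))) x

end Groth.Agent.MilKLib
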