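import Groth.Agent.MilKLib.Residue

/-! Kernels of the residue and specialization maps. -/

universe u v

namespace Groth.Agent.MilKLib

open MilK Function IsLocalRing

variable {A : Type u} [CommRing A] [IsDomain A] [IsDiscreteValuationRing A]
  {L : Type v} [Field L] [Algebra A L] [IsFractionRing A L]

variable (A L) in
/-- The subgroup generated by symbols with a unit of residue one in front. -/
noncomputable def oneSub (n : ℕ) : AddSubgroup (K L (n + 1)) :=
  AddSubgroup.closure {z | ∃ (u₀ : Aˣ) (w : Fin n → Lˣ),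
    residue A (u₀ : A) = 1 ∧ z = symbol (Fin.cons (unitToFrac A L u₀) w)}

theorem lmul_oneUnit_mem {n : ℕ} {u : Aˣ} (hu : residue A (u : A) = 1) (z : K L n) :
    lmul n (unitToFrac A L u) z ∈ oneSub A L n := by
  refine mem_of_symbol_mem (H := (oneSub A L n).comap (lmul n (unitToFrac A L u))) (fun w => ?_) z
  exact AddSubgroup.subset_closure ⟨u, w, hu, lmul_symbol _ _⟩

theorem lmul_mem_oneSub {n : ℕ} (a : Lˣ) {z : K L (n + 1)} (hz : z ∈ oneSub A L n) :
    lmul (n + 1) a z ∈ oneSub A L (n + 1) := by
  refine (AddSubgroup.closure_le ((oneSub A L (n + 1)).comap (lmul (n + 1) a))).mpr ?_ hz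
  rintro _ ⟨u, w, hu, rfl⟩
  show lmul (n + 1) a _ ∈ oneSub A L (n + 1)
  rw [← lmul_symbol, lmul_anticomm]
  exact AddSubgroup.neg_mem _ (lmul_oneUnit_mem hu _)

theorem residue_div_eq_one {u u' : Aˣ} (h : unitResidue A u = unitResidue A u') :
    residue A ((u / u' : Aˣ) : A) = 1 := by
  rw [← coe_unitResidue, map_div, h, div_self', Units.val_one]

theorem units_sub_mem_oneSub : ∀ {n : ℕ} (u u' : Fin (n + 1) → Aˣ),
    (∀ i, unitResidue A (u i) = unitResidue A (u' i)) →
    (symbol fun i => unitToFrac A L (u i)) - symbol (fun i => unitToFrac A L (u' i)) ∈ oneSub A L n := by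
  intro n
  induction n with
  | zero =>
    intro u u' h
    rw [← Fin.cons_self_tail u, ← Fin.cons_self_tail u', ← cons_units, ← cons_units, ← lmul_symbol,
      ← lmul_symbol, Subsingleton.elim (Fin.tail u) (Fin.tail u'), ← lmul_div, ← map_div]
    exact lmul_oneUnit_mem (residue_div_eq_one (h 0)) _
  | succ n ih =>
    intro u u' h
    rw [← Fin.cons_self_tail u, ← Fin.cons_self_tail u', ← cons_units, ← cons_units, ← lmul_symbol,
      ← lmul_symbol, ← sub_add_sub_cancel _ (lmul (n + 1) (unitToFrac A L (u 0))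
        (symbol fun i => unitToFrac A L (Fin.tail u' i))), ← map_sub, ← lmul_div, ← map_div]
    exact AddSubgroup.add_mem _ (lmul_mem_oneSub _ (ih _ _ fun i => h i.succ))
      (lmul_oneUnit_mem (residue_div_eq_one (h 0)) _)

/-- Lift a tuple of residues to a tuple of units. -/
noncomputable def liftRes (c : (ResidueField A)ˣ) : Aˣ := (unitResidue_surjective c).choose

theorem unitResidue_liftRes (c : (ResidueField A)ˣ) : unitResidue A (liftRes c) = c :=
  (unitResidue_surjective c).choose_spec

section Section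

variable {n : ℕ} (S : AddSubgroup (K L (n + 1))) {m : ℕ} (f : K L m →+ K L (n + 1))
  (hS : ∀ u u' : Fin m → Aˣ, (∀ i, unitResidue A (u i) = unitResidue A (u' i)) →
    f (symbol fun i => unitToFrac A L (u i)) - f (symbol fun i => unitToFrac A L (u' i)) ∈ S)

/-- The multilinear map `{ū} ↦ f {u}` modulo `S`. -/
noncomputable def sectionM : MultilinearMap ℤ (fun _ : Fin m => Additive (ResidueField A)ˣ)
    (K L (n + 1) ⧸ S) :=
  MultilinearMap.mk'
    (fun c => QuotientAddGroup.mk' S (f (symbol fun i => unitToFrac A L (liftRes (c i).toMul))))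
    (fun c i a b => by
      have key : ∀ w : Additive (ResidueField A)ˣ,
          (fun j => unitToFrac A L (liftRes (Function.update c i w j).toMul)) =
            Function.update (fun j => unitToFrac A L (liftRes (c j).toMul)) i
              (unitToFrac A L (liftRes w.toMul)) := fun w => by
        funext j; rcases eq_or_ne j i with rfl | h <;> simp [*]
      rw [← map_add, key a, key b, ← map_add f, ← symbol_update_mul, ← map_mul]
      refine (QuotientAddGroup.eq_iff_sub_mem).mpr ?_
      rw [key]
      have := hS (Function.update (fun j => liftRes (c j).toMul) i (liftRes (a + b).toMul))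
        (Function.update (fun j => liftRes (c j).toMul) i (liftRes a.toMul * liftRes b.toMul))
        fun j => by
          rcases eq_or_ne j i with rfl | h
          · simp [unitResidue_liftRes, toMul_add]
          · simp [h]
      convert this using 4 <;> exact (funext fun j => (Function.apply_update (fun _ => unitToFrac A L) _ _ _ j).symm))
    (fun c i r a => by
      have key : ∀ w : Additive (ResidueField A)ˣ,
          (fun j => unitToFrac A L (liftRes (Function.update c i w j).toMul)) =
            Function.update (fun j => unitToFrac A L (liftRes (c j).toMul)) i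
              (unitToFrac A L (liftRes w.toMul)) := fun w => by
        funext j; rcases eq_or_ne j i with rfl | h <;> simp [*]
      rw [← map_zsmul, key a, ← map_zsmul f, ← symbol_update_zpow, ← map_zpow]
      refine (QuotientAddGroup.eq_iff_sub_mem).mpr ?_
      rw [key]
      have := hS (Function.update (fun j => liftRes (c j).toMul) i (liftRes (r • a).toMul))
        (Function.update (fun j => liftRes (c j).toMul) i (liftRes a.toMul ^ r))
        fun j => by
          rcases eq_or_ne j i with rfl | h
          · simp [unitResidue_liftRes, toMul_zsmul]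
          · simp [h]
      convert this using 4 <;> exact (funext fun j => (Function.apply_update (fun _ => unitToFrac A L) _ _ _ j).symm))

theorem sectionM_eq (c : Fin m → Additive (ResidueField A)ˣ) (u : Fin m → Aˣ)
    (hu : ∀ i, unitResidue A (u i) = (c i).toMul) :
    sectionM S f hS c = QuotientAddGroup.mk' S (f (symbol fun i => unitToFrac A L (u i))) :=
  QuotientAddGroup.eq_iff_sub_mem.mpr (hS _ _ fun i => by rw [unitResidue_liftRes, hu])

/-- The map `{ū} ↦ f {u}` modulo `S`. -/
noncomputable def sectionMap : K (ResidueField A) m →+ K L (n + 1) ⧸ S :=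
  MilK.lift (sectionM S f hS) fun c hc => by
    obtain ⟨i, j, hij, hs⟩ := hc
    have hu : IsUnit (1 - (liftRes (c i) : A)) := residue_ne_zero_iff_isUnit _ |>.mp (by
      rw [map_sub, map_one, ← coe_unitResidue, unitResidue_liftRes, ← hs, add_sub_cancel_left]
      exact (c j).ne_zero)
    rw [sectionM_eq S f hS _ (Function.update (fun l => liftRes (c l)) j hu.unit) fun l => by
      rcases eq_or_ne l j with rfl | hl
      · ext
        simp only [Function.update_self, coe_unitResidue, IsUnit.unit_spec, map_sub, map_one,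
          toMul_ofMul]
        rw [← coe_unitResidue, unitResidue_liftRes, ← hs]
        ring
      · simp [hl, unitResidue_liftRes]]
    rw [symbol_eq_zero_of_add_eq_one _ hij.ne (by simp [hij.ne]), map_zero, map_zero]

theorem sectionMap_symbol (u : Fin m → Aˣ) :
    sectionMap S f hS (symbol fun i => unitResidue A (u i)) =
      QuotientAddGroup.mk' S (f (symbol fun i => unitToFrac A L (u i))) := by
  rw [sectionMap, lift_symbol]
  exact sectionM_eq S f hS _ u fun i => rfl

end Section

variable {ϖ : A} (hϖ : Irreducible ϖ)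
include hϖ

theorem lmul_uniformizer_oneUnit {w : Aˣ} (hw : residue A (w : A) = 1) {n : ℕ} (u : Fin n → Aˣ) :
    lmul (n + 1) (unitFrac A L ϖ hϖ.ne_zero) (lmul n (unitToFrac A L w) (symbol fun i => unitToFrac A L (u i)))
      ∈ unitSub A L (n + 2) := by
  suffices h1 : ∀ w v : Aˣ, (w : A) = 1 - ϖ * v →
      lmul (n + 1) (unitFrac A L ϖ hϖ.ne_zero) (lmul n (unitToFrac A L w) (symbol fun i => unitToFrac A L (u i)))
        ∈ unitSub A L (n + 2) by
    have hmem : (w : A) - 1 ∈ maximalIdeal A := by
      rw [← residue_eq_zero_iff, map_sub, hw, map_one, sub_self]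
    rw [hϖ.maximalIdeal_eq, Ideal.mem_span_singleton] at hmem
    obtain ⟨t, ht⟩ := hmem
    by_cases htu : IsUnit t
    · exact h1 w (-htu.unit) (by simp; linear_combination ht)
    · have hp : IsUnit (1 + ϖ) := residue_ne_zero_iff_isUnit _ |>.mp (by
        rw [map_add, map_one, residue_eq_zero_iff ϖ |>.mpr ((IsLocalRing.mem_maximalIdeal _).mpr hϖ.not_isUnit),
          add_zero]; exact one_ne_zero)
      have hd : IsUnit (1 - t) := residue_ne_zero_iff_isUnit _ |>.mp (by
        rw [map_sub, map_one, residue_eq_zero_iff t |>.mpr ((IsLocalRing.mem_maximalIdeal _).mpr htu),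
          sub_zero]; exact one_ne_zero)
      have e1 := h1 hp.unit (-1) (by simp)
      have e2 := h1 (w * hp.unit⁻¹) (hd.unit * hp.unit⁻¹) (by
        have h3 : (1 + ϖ) * ((hp.unit⁻¹ : Aˣ) : A) = 1 := hp.mul_val_inv
        simp only [Units.val_mul, IsUnit.unit_spec]
        linear_combination ((hp.unit⁻¹ : Aˣ) : A) * ht + h3)
      rw [show w = hp.unit * (w * hp.unit⁻¹) by rw [mul_left_comm, mul_inv_cancel, mul_one], map_mul,
        lmul_mul, map_add]
      exact AddSubgroup.add_mem _ e1 e2
  intro w v hwv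
  have h0 := lmul_lmul_of_add_eq_one (unitFrac A L ϖ hϖ.ne_zero * unitToFrac A L v) (unitToFrac A L w)
    (by simp [hwv]) (symbol fun i => unitToFrac A L (u i))
  rw [lmul_mul, add_eq_zero_iff_eq_neg] at h0
  rw [h0, lmul_symbol (unitToFrac A L w), cons_units]
  exact AddSubgroup.neg_mem _ (cons_mem_unitSub _ _)

theorem oneSub_le_unitSub (n : ℕ) : oneSub A L n ≤ unitSub A L (n + 1) := by
  refine (AddSubgroup.closure_le _).mpr ?_
  rintro _ ⟨w, z, hw, rfl⟩
  show symbol (Fin.cons (unitToFrac A L w) z) ∈ unitSub A L (n + 1)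
  rw [← lmul_symbol]
  cases n with
  | zero =>
    rw [show z = fun i => unitToFrac A L ((![] : Fin 0 → Aˣ) i) from Subsingleton.elim _ _]
    exact cons_mem_unitSub _ _
  | succ n =>
    refine gen_induction hϖ ((unitSub A L (n + 2)).comap (lmul (n + 1) (unitToFrac A L w))) (fun u => ?_)
      (fun u => ?_) (symbol z)
    · exact cons_mem_unitSub _ _
    · show lmul (n + 1) (unitToFrac A L w) (lmul n (unitFrac A L ϖ hϖ.ne_zero) _) ∈ unitSub A L (n + 2)
      rw [lmul_anticomm]
      exact AddSubgroup.neg_mem _ (lmul_uniformizer_oneUnit hϖ hw u)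

theorem uniformizer_sub_mem_unitSub {n : ℕ} (u u' : Fin n → Aˣ)
    (h : ∀ i, unitResidue A (u i) = unitResidue A (u' i)) :
    lmul n (unitFrac A L ϖ hϖ.ne_zero) (symbol fun i => unitToFrac A L (u i)) -
      lmul n (unitFrac A L ϖ hϖ.ne_zero) (symbol fun i => unitToFrac A L (u' i)) ∈ unitSub A L (n + 1) := by
  induction n with
  | zero => rw [Subsingleton.elim u u', sub_self]; exact AddSubgroup.zero_mem _
  | succ n ih =>
    have e : ∀ u : Fin (n + 1) → Aˣ, (symbol fun i => unitToFrac A L (u i)) =
        lmul n (unitToFrac A L (u 0)) (symbol fun i => unitToFrac A L (Fin.tail u i)) := fun u => by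
      rw [lmul_symbol, cons_units, Fin.cons_self_tail]
    rw [e u, e u', ← sub_add_sub_cancel _ (lmul (n + 1) (unitFrac A L ϖ hϖ.ne_zero)
        (lmul n (unitToFrac A L (u 0)) (symbol fun i => unitToFrac A L (Fin.tail u' i))))]
    refine AddSubgroup.add_mem _ ?_ ?_
    · rw [lmul_anticomm, lmul_anticomm _ (unitToFrac A L (u 0)), ← neg_sub_neg, neg_neg, neg_neg, ← map_sub]
      exact lmul_mem_unitSub _ (by
        rw [← neg_sub]; exact AddSubgroup.neg_mem _ (ih _ _ fun i => h i.succ))
    · rw [← map_sub, ← lmul_div, ← map_div]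
      exact lmul_uniformizer_oneUnit hϖ (residue_div_eq_one (h 0)) _

theorem tame_surjective (n : ℕ) (b : K (ResidueField A) n) :
    ∃ x, tame L hϖ n x = b ∧ spec L hϖ (n + 1) x = 0 := by
  induction b using induction_symbol with
  | hsym c =>
    refine ⟨lmul n (unitFrac A L ϖ hϖ.ne_zero) (symbol fun i => unitToFrac A L (liftRes (c i))), ?_, ?_⟩
    · rw [lmul_symbol, isTameSymbol_tame hϖ n _ hϖ]; congr 1; funext i; exact unitResidue_liftRes _
    · rw [spec_lmul, angC_uniformizer, lmul_one]
  | h0 => exact ⟨0, map_zero _, map_zero _⟩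
  | hneg a ha => obtain ⟨x, h1, h2⟩ := ha; exact ⟨-x, by simp [h1], by simp [h2]⟩
  | hadd a b ha hb =>
    obtain ⟨x, h1, h2⟩ := ha; obtain ⟨y, h3, h4⟩ := hb
    exact ⟨x + y, by simp [h1, h3], by simp [h2, h4]⟩

theorem spec_tame_surjective (n : ℕ) (a : K (ResidueField A) (n + 1)) (b : K (ResidueField A) n) :
    ∃ x, spec L hϖ (n + 1) x = a ∧ tame L hϖ n x = b := by
  suffices h : ∃ x, spec L hϖ (n + 1) x = a ∧ tame L hϖ n x = 0 by
    obtain ⟨x, h1, h2⟩ := h
    obtain ⟨y, h3, h4⟩ := tame_surjective (L := L) hϖ n b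
    exact ⟨x + y, by simp [h1, h4], by simp [h2, h3]⟩
  induction a using induction_symbol with
  | hsym c =>
    refine ⟨symbol fun i => unitToFrac A L (liftRes (c i)), ?_, tame_units hϖ _⟩
    rw [spec_units]; congr 1; funext i; exact unitResidue_liftRes _
  | h0 => exact ⟨0, map_zero _, map_zero _⟩
  | hneg a ha => obtain ⟨x, h1, h2⟩ := ha; exact ⟨-x, by simp [h1], by simp [h2]⟩
  | hadd a b ha hb =>
    obtain ⟨x, h1, h2⟩ := ha; obtain ⟨y, h3, h4⟩ := hb
    exact ⟨x + y, by simp [h1, h3], by simp [h2, h4]⟩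

theorem ker_tame (n : ℕ) : (tame L hϖ n).ker = unitSub A L (n + 1) := by
  refine le_antisymm (fun x hx => ?_) ((AddSubgroup.closure_le _).mpr ?_)
  · let Ψ := sectionMap (unitSub A L (n + 1)) (lmul n (unitFrac A L ϖ hϖ.ne_zero))
      (uniformizer_sub_mem_unitSub hϖ)
    have h : QuotientAddGroup.mk' (unitSub A L (n + 1)) x = Ψ (tame L hϖ n x) := by
      refine gen_induction hϖ ((QuotientAddGroup.mk' (unitSub A L (n + 1))).eqLocus
        (Ψ.comp (tame L hϖ n))) (fun u => ?_) (fun u => ?_) x
      · show QuotientAddGroup.mk' _ _ = Ψ (tame L hϖ n _)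
        rw [tame_units, map_zero]
        exact (QuotientAddGroup.eq_zero_iff _).mpr (symbol_mem_unitSub u)
      · show QuotientAddGroup.mk' (unitSub A L (n + 1))
            (lmul n (unitFrac A L ϖ hϖ.ne_zero) (symbol fun i => unitToFrac A L (u i))) =
          Ψ (tame L hϖ n (lmul n (unitFrac A L ϖ hϖ.ne_zero) (symbol fun i => unitToFrac A L (u i))))
        rw [lmul_symbol, isTameSymbol_tame hϖ n _ hϖ]
        simp only [Ψ, sectionMap_symbol, lmul_symbol]
    rw [AddMonoidHom.mem_ker.mp hx, map_zero] at h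
    exact (QuotientAddGroup.eq_zero_iff x).mp h
  · rintro _ ⟨u, rfl⟩; exact tame_units hϖ u

theorem spec_ker_inf (n : ℕ) (x : K L (n + 1)) :
    (spec L hϖ (n + 1) x = 0 ∧ tame L hϖ n x = 0) ↔ x ∈ oneSub A L n := by
  refine ⟨fun ⟨hs, ht⟩ => ?_, fun h => ?_⟩
  · let Φ := sectionMap (oneSub A L n) (AddMonoidHom.id (K L (n + 1)))
      (fun u u' h => units_sub_mem_oneSub u u' h)
    have hx : x ∈ unitSub A L (n + 1) := by rw [← ker_tame (L := L) hϖ n]; exact ht
    have h : x ∈ ((QuotientAddGroup.mk' (oneSub A L n)).eqLocus (Φ.comp (spec L hϖ (n + 1)))) := by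
      refine (AddSubgroup.closure_le _).mpr ?_ hx
      rintro _ ⟨u, rfl⟩
      show QuotientAddGroup.mk' (oneSub A L n) (symbol fun i => unitToFrac A L (u i)) =
        Φ (spec L hϖ (n + 1) (symbol fun i => unitToFrac A L (u i)))
      rw [spec_units]
      simp only [Φ, sectionMap_symbol, AddMonoidHom.id_apply]
    have h' : QuotientAddGroup.mk' (oneSub A L n) x = Φ (spec L hϖ (n + 1) x) := h
    rw [hs, map_zero] at h'
    exact (QuotientAddGroup.eq_zero_iff x).mp h'
  · refine ⟨?_, AddMonoidHom.mem_ker.mp (by rw [ker_tame hϖ n]; exact oneSub_le_unitSub hϖ n h)⟩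
    refine (AddSubgroup.closure_le (spec L hϖ (n + 1)).ker).mpr ?_ h
    rintro _ ⟨u, w, hu, rfl⟩
    show spec L hϖ (n + 1) _ = 0
    rw [spec_symbol]
    exact symbol_eq_zero_of_one _ 0 (by rw [Fin.cons_zero, angC_unit]; exact Units.ext (by simpa using hu))

end Groth.Agent.MilKLib
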