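import Groth.Agent.MilKLib.Basic
import Mathlib.RingTheory.LocalRing.ResidueField.Basic
import Mathlib.Tactic.LinearCombination

/-! Residue and specialization maps of a discrete valuation. -/

universe u v w

namespace Groth.Agent.MilKLib

open MilK Function IsLocalRing

variable {A : Type u} [CommRing A] {L : Type v} [Field L] [Algebra A L] [IsFractionRing A L]

theorem unitToFrac_injective : Injective (unitToFrac A L) := fun u v h =>
  Units.ext (IsFractionRing.injective A L (congrArg Units.val h))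

@[simp]
theorem coe_unitToFrac (u : Aˣ) : (unitToFrac A L u : L) = algebraMap A L u := rfl

theorem unitFrac_mul {a b : A} (ha : a ≠ 0) (hb : b ≠ 0) (hab : a * b ≠ 0) :
    unitFrac A L (a * b) hab = unitFrac A L a ha * unitFrac A L b hb :=
  Units.ext (by simp)

theorem unitToFrac_neg_one : unitToFrac A L (-1) = -1 := Units.ext (by simp)

variable [IsDomain A] [IsDiscreteValuationRing A]

@[simp]
theorem coe_unitResidue (u : Aˣ) : (unitResidue A u : ResidueField A) = residue A u := rfl

theorem unitResidue_neg_one : unitResidue A (-1) = -1 := Units.ext (by simp)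

theorem unitResidue_surjective : Surjective (unitResidue A) := fun c => by
  obtain ⟨a, ha⟩ := Ideal.Quotient.mk_surjective (c : ResidueField A)
  have hu : IsUnit a := residue_ne_zero_iff_isUnit a |>.mp (by
    rw [show residue A a = (c : ResidueField A) from ha]; exact c.ne_zero)
  exact ⟨hu.unit, Units.ext ha⟩

variable {ϖ : A} (hϖ : Irreducible ϖ)
include hϖ

theorem exists_decomp (x : Lˣ) :
    ∃ (e : ℤ) (u : Aˣ), x = unitFrac A L ϖ hϖ.ne_zero ^ e * unitToFrac A L u := by
  obtain ⟨a, b, hb, hab⟩ := IsFractionRing.div_surjective A (x : L)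
  have hb0 : b ≠ 0 := nonZeroDivisors.ne_zero hb
  have ha0 : a ≠ 0 := fun e => x.ne_zero (by rw [← hab, e, map_zero, zero_div])
  obtain ⟨m, u, rfl⟩ := IsDiscreteValuationRing.eq_unit_mul_pow_irreducible ha0 hϖ
  obtain ⟨l, v, rfl⟩ := IsDiscreteValuationRing.eq_unit_mul_pow_irreducible hb0 hϖ
  refine ⟨(m : ℤ) - l, u / v, Units.ext ?_⟩
  have hne : algebraMap A L ϖ ≠ 0 := (map_ne_zero_iff _ (IsFractionRing.injective A L)).mpr hϖ.ne_zero
  rw [← hab, map_div, Units.val_mul, Units.val_zpow_eq_zpow_val, Units.val_div_eq_div_val]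
  simp only [map_mul, map_pow, coe_unitFrac, coe_unitToFrac]
  rw [zpow_sub₀ hne, zpow_natCast, zpow_natCast]
  field_simp

theorem decomp_unique {e e' : ℤ} {u u' : Aˣ}
    (h : unitFrac A L ϖ hϖ.ne_zero ^ e * unitToFrac A L u =
      unitFrac A L ϖ hϖ.ne_zero ^ e' * unitToFrac A L u') : e = e' ∧ u = u' := by
  wlog hle : e' ≤ e generalizing e e' u u'
  · obtain ⟨h1, h2⟩ := this h.symm (le_of_not_ge hle)
    exact ⟨h1.symm, h2.symm⟩
  obtain ⟨d, rfl⟩ : ∃ d : ℕ, e = e' + d := ⟨(e - e').toNat, by omega⟩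
  rw [zpow_add, mul_assoc, mul_right_inj, zpow_natCast] at h
  have h' : ((u : A)) * ϖ ^ d = (u' : A) * ϖ ^ 0 := by
    refine IsFractionRing.injective A L ?_
    have := congrArg Units.val h
    simp at this
    simp [← this, mul_comm]
  obtain rfl := IsDiscreteValuationRing.unit_mul_pow_congr_pow hϖ hϖ u u' d 0 h'
  simp only [pow_zero, one_mul] at h
  exact ⟨by simp, unitToFrac_injective h⟩

variable (L) in
/-- The valuation attached to the uniformizer. -/
noncomputable def vord : Additive Lˣ →+ ℤ :=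
  AddMonoidHom.mk' (fun x => (exists_decomp (L := L) hϖ x.toMul).choose) fun x y => by
    obtain ⟨u, hu⟩ := (exists_decomp (L := L) hϖ x.toMul).choose_spec
    obtain ⟨v, hv⟩ := (exists_decomp (L := L) hϖ y.toMul).choose_spec
    obtain ⟨w, hw⟩ := (exists_decomp (L := L) hϖ (x + y).toMul).choose_spec
    refine (decomp_unique (L := L) hϖ (u := w) (u' := u * v) ?_).1
    rw [← hw, toMul_add]
    conv_lhs => rw [hu, hv]
    rw [map_mul, zpow_add]
    ac_rfl

theorem vord_decomp (e : ℤ) (u : Aˣ) :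
    vord L hϖ (Additive.ofMul (unitFrac A L ϖ hϖ.ne_zero ^ e * unitToFrac A L u)) = e := by
  obtain ⟨v, hv⟩ := (exists_decomp (L := L) hϖ
    (unitFrac A L ϖ hϖ.ne_zero ^ e * unitToFrac A L u)).choose_spec
  exact (decomp_unique hϖ hv).1.symm

variable (L) in
/-- The angular component attached to the uniformizer. -/
noncomputable def angC : Lˣ →* (ResidueField A)ˣ :=
  MonoidHom.mk' (fun x => unitResidue A (exists_decomp (L := L) hϖ x).choose_spec.choose) fun x y => by
    have hu := (exists_decomp (L := L) hϖ x).choose_spec.choose_spec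
    have hv := (exists_decomp (L := L) hϖ y).choose_spec.choose_spec
    have hw := (exists_decomp (L := L) hϖ (x * y)).choose_spec.choose_spec
    rw [← map_mul]
    congr 1
    refine (decomp_unique (L := L) hϖ (e := (exists_decomp (L := L) hϖ (x * y)).choose)
      (e' := (exists_decomp (L := L) hϖ x).choose + (exists_decomp (L := L) hϖ y).choose) ?_).2
    rw [← hw]
    conv_lhs => rw [hu, hv]
    rw [map_mul, zpow_add]
    ac_rfl

theorem angC_decomp (e : ℤ) (u : Aˣ) :
    angC L hϖ (unitFrac A L ϖ hϖ.ne_zero ^ e * unitToFrac A L u) = unitResidue A u := by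
  have hv := (exists_decomp (L := L) hϖ
    (unitFrac A L ϖ hϖ.ne_zero ^ e * unitToFrac A L u)).choose_spec.choose_spec
  exact congrArg (unitResidue A) (decomp_unique hϖ hv).2.symm

theorem vord_unit (u : Aˣ) : vord L hϖ (Additive.ofMul (unitToFrac A L u)) = 0 := by
  simpa using vord_decomp (L := L) hϖ 0 u

theorem angC_unit (u : Aˣ) : angC L hϖ (unitToFrac A L u) = unitResidue A u := by
  simpa using angC_decomp (L := L) hϖ 0 u

theorem vord_uniformizer : vord L hϖ (Additive.ofMul (unitFrac A L ϖ hϖ.ne_zero)) = 1 := by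
  simpa using vord_decomp (L := L) hϖ 1 1

theorem angC_uniformizer : angC L hϖ (unitFrac A L ϖ hϖ.ne_zero) = 1 := by
  simpa using angC_decomp (L := L) hϖ 1 1

theorem vord_neg_one : vord L hϖ (Additive.ofMul (-1 : Lˣ)) = 0 := by
  rw [← unitToFrac_neg_one (A := A), vord_unit]

theorem angC_neg_one : angC L hϖ (-1 : Lˣ) = -1 := by
  rw [← unitToFrac_neg_one (A := A), angC_unit, unitResidue_neg_one]

/-- The three ways two elements of sum one can reduce. -/
theorem sum_one_cases (x y : Lˣ) (h : (x : L) + y = 1) :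
    (vord L hϖ (Additive.ofMul x) = 0 ∧ angC L hϖ x = 1) ∨
    (vord L hϖ (Additive.ofMul y) = 0 ∧ angC L hϖ y = 1) ∨
    (vord L hϖ (Additive.ofMul x) = 0 ∧ vord L hϖ (Additive.ofMul y) = 0 ∧
      (angC L hϖ x : ResidueField A) + angC L hϖ y = 1) ∨
    (vord L hϖ (Additive.ofMul y) = vord L hϖ (Additive.ofMul x) ∧ angC L hϖ y = -angC L hϖ x) := by
  classical
  have key : ∀ (m : ℕ) (u : Aˣ), 0 < m → IsUnit (1 - ϖ ^ m * (u : A)) ∧
      residue A (1 - ϖ ^ m * (u : A)) = 1 := fun m u hm => by
    have hr : residue A (1 - ϖ ^ m * (u : A)) = 1 := by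
      rw [map_sub, map_one, map_mul, map_pow,
        residue_eq_zero_iff ϖ |>.mpr ((IsLocalRing.mem_maximalIdeal _).mpr hϖ.not_isUnit),
        zero_pow hm.ne', zero_mul, sub_zero]
    exact ⟨residue_ne_zero_iff_isUnit _ |>.mp (by rw [hr]; exact one_ne_zero), hr⟩
  obtain ⟨a, u, rfl⟩ := exists_decomp (L := L) hϖ x
  rcases lt_trichotomy a 0 with ha | rfl | ha
  · obtain ⟨m, rfl⟩ : ∃ m : ℕ, a = -(m : ℤ) := ⟨(-a).toNat, by omega⟩
    obtain ⟨hw, hr⟩ := key m u⁻¹ (by omega)
    refine Or.inr (Or.inr (Or.inr ?_))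
    have hy : y = unitFrac A L ϖ hϖ.ne_zero ^ (-(m : ℤ)) * unitToFrac A L (-(u * hw.unit)) := by
      ext
      have hp : algebraMap A L ϖ ≠ 0 :=
        (map_ne_zero_iff _ (IsFractionRing.injective A L)).mpr hϖ.ne_zero
      have hu : algebraMap A L (u : A) * algebraMap A L ((u⁻¹ : Aˣ) : A) = 1 := by
        rw [← map_mul, u.mul_inv, map_one]
      simp only [Units.val_mul, Units.val_zpow_eq_zpow_val, Units.val_inv_eq_inv_val, Units.val_pow_eq_pow_val, coe_unitFrac, coe_unitToFrac, zpow_neg,
        zpow_natCast, Units.val_neg, IsUnit.unit_spec, map_neg, map_mul, map_sub, map_one, map_pow] at h ⊢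
      rw [eq_sub_of_add_eq' h]
      field_simp
      linear_combination (-(algebraMap A L ϖ) ^ m) * hu
    rw [hy, vord_decomp, vord_decomp, angC_decomp, angC_decomp]
    exact ⟨rfl, Units.ext (by simp [hr])⟩
  · obtain ⟨b, w, hy⟩ := exists_decomp (L := L) hϖ y
    have hu0 : 1 - (u : A) ≠ 0 := fun e => y.ne_zero (by
      have e' := congrArg (algebraMap A L) e
      simp at h e'
      linear_combination h + e')
    by_cases hunit : IsUnit (1 - (u : A))
    · have hy' : y = unitToFrac A L hunit.unit := by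
        ext
        simp at h ⊢
        linear_combination h
      refine Or.inr (Or.inr (Or.inl ⟨vord_decomp hϖ 0 u, by rw [hy', vord_unit], ?_⟩))
      rw [angC_decomp, hy', angC_unit]
      simp
    · refine Or.inl ⟨vord_decomp hϖ 0 u, ?_⟩
      rw [angC_decomp]
      ext
      have := residue_eq_zero_iff _ |>.mpr ((IsLocalRing.mem_maximalIdeal _).mpr hunit)
      rw [map_sub, map_one, sub_eq_zero] at this
      simpa using this.symm
  · obtain ⟨m, rfl⟩ : ∃ m : ℕ, a = (m : ℤ) := ⟨a.toNat, by omega⟩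
    obtain ⟨hw, hr⟩ := key m u (by omega)
    refine Or.inr (Or.inl ?_)
    have hy : y = unitToFrac A L hw.unit := by
      ext
      simp at h ⊢
      linear_combination h
    rw [hy, vord_unit, angC_unit]
    exact ⟨rfl, Units.ext (by simpa using hr)⟩

/-! ### The specialization map -/

theorem symbol_angC_steinberg {n : ℕ} (x : Fin n → Lˣ) (hx : IsSteinberg L x) :
    symbol (fun i => angC L hϖ (x i)) = 0 := by
  obtain ⟨i, j, hij, hs⟩ := hx
  rcases sum_one_cases hϖ (x i) (x j) hs with ⟨-, h⟩ | ⟨-, h⟩ | ⟨-, -, h⟩ | ⟨-, h⟩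
  · exact symbol_eq_zero_of_one _ i h
  · exact symbol_eq_zero_of_one _ j h
  · exact symbol_eq_zero_of_add_eq_one _ hij.ne h
  · exact symbol_eq_zero_of_eq_neg _ hij.ne h

variable (L) in
/-- The specialization map. -/
noncomputable def spec (n : ℕ) : K L n →+ K (ResidueField A) n :=
  MilK.lift ((symM (ResidueField A) n).compLinearMap fun _ =>
    (MonoidHom.toAdditive (angC L hϖ)).toIntLinearMap) fun x hx => symbol_angC_steinberg hϖ x hx

theorem spec_symbol {n : ℕ} (x : Fin n → Lˣ) :
    spec L hϖ n (symbol x) = symbol fun i => angC L hϖ (x i) := by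
  exact (lift_symbol _ _ _).trans rfl

theorem isSpecMap_spec (n : ℕ) : IsSpecMap A L ϖ hϖ n (spec L hϖ n) := fun e u => by
  rw [spec_symbol]
  congr 1
  funext i
  exact angC_decomp hϖ _ _

theorem eq_spec {n : ℕ} {s : K L n →+ K (ResidueField A) n} (hs : IsSpecMap A L ϖ hϖ n s) :
    s = spec L hϖ n := hom_ext fun x => by
  choose e u hx using fun i => exists_decomp (L := L) hϖ (x i)
  rw [show x = fun i => unitFrac A L ϖ hϖ.ne_zero ^ e i * unitToFrac A L (u i) from funext hx, hs,
    isSpecMap_spec hϖ]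

theorem spec_lmul {n : ℕ} (a : Lˣ) (x : K L n) :
    spec L hϖ (n + 1) (lmul n a x) = lmul n (angC L hϖ a) (spec L hϖ n x) :=
  DFunLike.congr_fun (hom_ext (f := (spec L hϖ (n + 1)).comp (lmul n a))
    (g := (lmul n (angC L hϖ a)).comp (spec L hϖ n)) fun x => by
      simp only [AddMonoidHom.comp_apply, lmul_symbol, spec_symbol]
      congr 1
      funext i
      cases i using Fin.cases <;> simp) x

/-! ### The residue map -/

variable (L) in
/-- The angular component for the uniformizer `-ϖ`. -/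
noncomputable def angC' : Lˣ →* (ResidueField A)ˣ :=
  MonoidHom.mk' (fun x => (-1) ^ vord L hϖ (Additive.ofMul x) * angC L hϖ x) fun x y => by
    rw [ofMul_mul, map_add, zpow_add, map_mul]
    ac_rfl

theorem angC'_apply (x : Lˣ) :
    angC' L hϖ x = (-1) ^ vord L hϖ (Additive.ofMul x) * angC L hϖ x := rfl

variable (L) in
/-- The residue map on tuples. -/
noncomputable def tameM : (n : ℕ) →
    MultilinearMap ℤ (fun _ : Fin (n + 1) => Additive Lˣ) (K (ResidueField A) n)
  | 0 => MultilinearMap.ofSubsingleton ℤ _ _ (0 : Fin 1)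
      (AddMonoidHom.toIntLinearMap ((zmultiplesHom _ (symbol ![])).comp (vord L hϖ)))
  | n + 1 => LinearMap.uncurryLeft (AddMonoidHom.toIntLinearMap
      (AddMonoidHom.mk' (fun x : Additive Lˣ =>
        vord L hϖ x • (symM (ResidueField A) (n + 1)).compLinearMap
            (fun _ => (MonoidHom.toAdditive (angC L hϖ)).toIntLinearMap) -
          (lmul n (angC' L hϖ x.toMul)).toIntLinearMap.compMultilinearMap (tameM n)) fun x y => by
        ext z
        simp only [map_add, add_zsmul, toMul_add, map_mul, MultilinearMap.sub_apply, MultilinearMap.add_apply,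
          LinearMap.compMultilinearMap_apply, AddMonoidHom.coe_toIntLinearMap, lmul_mul]
        abel))

variable (L) in
/-- The residue map on tuples of units. -/
noncomputable def tameV (n : ℕ) (x : Fin (n + 1) → Lˣ) : K (ResidueField A) n :=
  tameM L hϖ n fun i => Additive.ofMul (x i)

theorem tameV_zero (x : Fin 1 → Lˣ) :
    tameV L hϖ 0 x = vord L hϖ (Additive.ofMul (x 0)) • symbol ![] := rfl

theorem tameV_succ {n : ℕ} (x : Fin (n + 2) → Lˣ) :
    tameV L hϖ (n + 1) x =
      vord L hϖ (Additive.ofMul (x 0)) • (symbol fun i => angC L hϖ (Fin.tail x i)) -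
        lmul n (angC' L hϖ (x 0)) (tameV L hϖ n (Fin.tail x)) := rfl

/-- An entry which is a unit of residue one kills the residue. -/
theorem tameV_of_one : ∀ (n : ℕ) (x : Fin (n + 1) → Lˣ) (i : Fin (n + 1)),
    vord L hϖ (Additive.ofMul (x i)) = 0 → angC L hϖ (x i) = 1 → tameV L hϖ n x = 0 := by
  intro n
  induction n with
  | zero => intro x i h1 _; rw [tameV_zero, ← Fin.fin_one_eq_zero i, h1, zero_zsmul]
  | succ n ih =>
    intro x i h1 h2
    rw [tameV_succ]
    cases i using Fin.cases with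
    | zero => rw [h1, zero_zsmul, angC'_apply, h1, h2, zpow_zero, mul_one, lmul_one, sub_zero]
    | succ i =>
      rw [ih (Fin.tail x) i h1 h2, symbol_eq_zero_of_one _ i h2, zsmul_zero, map_zero, sub_zero]

/-- The residue is killed by `{c}` when a unit entry reduces to `1 - c`. -/
theorem lmul_tameV_of_add_eq_one : ∀ (n : ℕ) (x : Fin (n + 1) → Lˣ) (i : Fin (n + 1))
    (c : (ResidueField A)ˣ), vord L hϖ (Additive.ofMul (x i)) = 0 →
    (c : ResidueField A) + angC L hϖ (x i) = 1 → lmul n c (tameV L hϖ n x) = 0 := by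
  intro n
  induction n with
  | zero =>
    intro x i c h1 _
    rw [tameV_zero, ← Fin.fin_one_eq_zero i, h1, zero_zsmul, map_zero]
  | succ n ih =>
    intro x i c h1 h2
    rw [tameV_succ, map_sub, map_zsmul]
    cases i using Fin.cases with
    | zero =>
      rw [h1, zero_zsmul, angC'_apply, h1, zpow_zero, one_mul, lmul_lmul_of_add_eq_one c _ h2, sub_zero]
    | succ i =>
      rw [lmul_anticomm, ih (Fin.tail x) i c h1 h2, map_zero, neg_zero, sub_zero, lmul_symbol,
        symbol_eq_zero_of_add_eq_one _ (i := 0) (j := i.succ) (Fin.succ_ne_zero i).symm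
          (by simp only [Fin.cons_zero, Fin.cons_succ]; exact h2), zsmul_zero]

omit hϖ in
theorem zsmul_lmul_neg_sub (a : ℤ) (c : (ResidueField A)ˣ) {n : ℕ} (z : K (ResidueField A) n) :
    a • lmul n (-c) z - a • lmul n ((-1) ^ a * c) z = 0 := by
  rw [← lmul_zpow, ← lmul_zpow, ← lmul_div, ← div_zpow,
    show (-c : (ResidueField A)ˣ) / ((-1) ^ a * c) = (-1) ^ (1 - a) by
      rw [← neg_one_mul c, mul_div_mul_right_eq_div, zpow_sub, zpow_one, div_eq_mul_inv],
    ← zpow_mul, mul_comm, Even.neg_one_zpow ?_, lmul_one]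
  rcases Int.even_or_odd a with ha | ha
  · exact ha.mul_right _
  · exact (Odd.sub_odd odd_one ha).mul_left _

/-- The case of two entries with the same valuation and opposite angular components. -/
theorem zsmul_spec_eq_lmul_tameV : ∀ (n : ℕ) (x : Fin (n + 1) → Lˣ) (i : Fin (n + 1))
    (a : ℤ) (c : (ResidueField A)ˣ), vord L hϖ (Additive.ofMul (x i)) = a → angC L hϖ (x i) = -c →
    a • (symbol fun j => angC L hϖ (x j)) = lmul n ((-1) ^ a * c) (tameV L hϖ n x) := by
  intro n
  induction n with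
  | zero =>
    intro x i a c h1 h2
    obtain rfl := Fin.fin_one_eq_zero i
    rw [tameV_zero, h1, map_zsmul, ← sub_eq_zero,
      show (fun j => angC L hϖ (x j)) = Fin.cons (-c) ![] from funext fun j => by
        rw [Fin.fin_one_eq_zero j, h2]; rfl,
      ← lmul_symbol, zsmul_lmul_neg_sub]
  | succ n ih =>
    intro x i a c h1 h2
    rw [← sub_eq_zero, tameV_succ, map_sub, map_zsmul,
      show (fun j => angC L hϖ (x j)) = Fin.cons (angC L hϖ (x 0)) (fun j => angC L hϖ (Fin.tail x j)) from
        funext fun j => by cases j using Fin.cases <;> rfl, ← lmul_symbol]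
    cases i using Fin.cases with
    | zero =>
      rw [h1, h2, angC'_apply, h1, h2, mul_neg, lmul_lmul_neg, sub_zero, zsmul_lmul_neg_sub]
    | succ i =>
      have hD := ih (Fin.tail x) i a c h1 h2
      rw [lmul_anticomm, ← hD, map_zsmul, sub_neg_eq_add]
      set b := vord L hϖ (Additive.ofMul (x 0))
      set r := angC L hϖ (x 0)
      set S := symbol fun j => angC L hϖ (Fin.tail x j) with hS
      have hcS : lmul (n + 1) c S = 0 := by
        rw [hS, lmul_symbol]
        refine symbol_eq_zero_of_eq_neg _ (i := 0) (j := i.succ) (Fin.succ_ne_zero i).symm ?_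
        simp only [Fin.cons_zero, Fin.cons_succ]
        exact h2
      have hm : ∀ k : ℤ, (2 * k) • lmul (n + 1) (-1 : (ResidueField A)ˣ) S = 0 := fun k => by
        rw [mul_comm, mul_smul, ← lmul_zpow, zpow_ofNat, neg_one_sq, lmul_one, zsmul_zero]
      rw [angC'_apply]
      simp only [lmul_mul, lmul_zpow, hcS, add_zero, smul_add, smul_smul, smul_zero]
      linear_combination (norm := module) (-1 : ℤ) • (hm (a * b))

theorem tameV_steinberg : ∀ (n : ℕ) (x : Fin (n + 1) → Lˣ), IsSteinberg L x → tameV L hϖ n x = 0 := by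
  intro n
  induction n with
  | zero =>
    rintro x ⟨i, j, hij, -⟩
    exact absurd hij (by simp [Fin.fin_one_eq_zero i, Fin.fin_one_eq_zero j])
  | succ n ih =>
    rintro x ⟨i, j, hij, hs⟩
    obtain ⟨j, rfl⟩ : ∃ j' : Fin (n + 1), j = j'.succ :=
      Fin.exists_succ_eq.mpr (Fin.pos_of_ne_zero (fun e => by simp [e] at hij)).ne' |>.imp fun _ h => h.symm
    cases i using Fin.cases with
    | succ i =>
      have ht : IsSteinberg L (Fin.tail x) := ⟨i, j, Fin.succ_lt_succ_iff.mp hij, hs⟩
      rw [tameV_succ, ih _ ht, symbol_angC_steinberg hϖ _ ht, zsmul_zero, map_zero, sub_zero]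
    | zero =>
      rcases sum_one_cases hϖ (x 0) (x j.succ) hs with ⟨h1, h2⟩ | ⟨h1, h2⟩ | ⟨h1, h2, h3⟩ | ⟨h1, h2⟩
      · exact tameV_of_one hϖ _ x 0 h1 h2
      · exact tameV_of_one hϖ _ x j.succ h1 h2
      · rw [tameV_succ, angC'_apply, h1, zero_zsmul, zpow_zero, one_mul,
          lmul_tameV_of_add_eq_one hϖ _ (Fin.tail x) j _ h2 h3, sub_zero]
      · rw [tameV_succ, angC'_apply, zsmul_spec_eq_lmul_tameV hϖ _ (Fin.tail x) j _ _ h1 h2, sub_self]

variable (L) in
/-- The residue map. -/
noncomputable def tame (n : ℕ) : K L (n + 1) →+ K (ResidueField A) n :=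
  MilK.lift (tameM L hϖ n) fun x hx => tameV_steinberg hϖ n x hx

theorem tame_symbol {n : ℕ} (x : Fin (n + 1) → Lˣ) : tame L hϖ n (symbol x) = tameV L hϖ n x :=
  lift_symbol _ _ _

theorem tame_lmul {n : ℕ} (a : Lˣ) (x : K L (n + 1)) :
    tame L hϖ (n + 1) (lmul (n + 1) a x) =
      vord L hϖ (Additive.ofMul a) • spec L hϖ (n + 1) x - lmul n (angC' L hϖ a) (tame L hϖ n x) :=
  DFunLike.congr_fun (hom_ext (f := (tame L hϖ (n + 1)).comp (lmul (n + 1) a))
    (g := vord L hϖ (Additive.ofMul a) • spec L hϖ (n + 1) - (lmul n (angC' L hϖ a)).comp (tame L hϖ n))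
    fun x => by
      simp only [AddMonoidHom.comp_apply, AddMonoidHom.sub_apply, AddMonoidHom.smul_apply, lmul_symbol,
        tame_symbol, spec_symbol, tameV_succ, Fin.cons_zero, Fin.tail_cons]) x

theorem tame_lmul_zero (a : Lˣ) (x : K L 0) :
    tame L hϖ 0 (lmul 0 a x) = vord L hϖ (Additive.ofMul a) • spec L hϖ 0 x :=
  DFunLike.congr_fun (hom_ext (f := (tame L hϖ 0).comp (lmul 0 a))
    (g := vord L hϖ (Additive.ofMul a) • spec L hϖ 0) fun x => by
      simp only [AddMonoidHom.comp_apply, AddMonoidHom.smul_apply, lmul_symbol, tame_symbol,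
        spec_symbol, tameV_zero, Fin.cons_zero]
      rw [symbol_fin_zero (fun i => angC L hϖ (x i))]) x

theorem tame_units {n : ℕ} (u : Fin (n + 1) → Aˣ) :
    tame L hϖ n (symbol fun i => unitToFrac A L (u i)) = 0 := by
  induction n with
  | zero => rw [tame_symbol, tameV_zero, vord_unit, zero_zsmul]
  | succ n ih =>
    have h := ih (Fin.tail u)
    rw [tame_symbol] at h ⊢
    rw [tameV_succ, vord_unit, zero_zsmul, show Fin.tail (fun i => unitToFrac A L (u i)) =
      fun i => unitToFrac A L (Fin.tail u i) from rfl, h, map_zero, sub_zero]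

omit hϖ in
theorem cons_units {n : ℕ} (u : Aˣ) (us : Fin n → Aˣ) :
    (Fin.cons (unitToFrac A L u) fun i => unitToFrac A L (us i) : Fin (n + 1) → Lˣ) =
      fun i => unitToFrac A L ((Fin.cons u us : Fin (n + 1) → Aˣ) i) :=
  funext fun i => by cases i using Fin.cases <;> simp

theorem spec_units {n : ℕ} (u : Fin n → Aˣ) :
    spec L hϖ n (symbol fun i => unitToFrac A L (u i)) = symbol fun i => unitResidue A (u i) := by
  rw [spec_symbol]; congr 1; funext i; exact angC_unit hϖ _

theorem isTameSymbol_tame (n : ℕ) : IsTameSymbol A L n (tame L hϖ n) := by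
  intro ϖ' hϖ' u
  obtain ⟨w, hw⟩ := IsDiscreteValuationRing.associated_of_irreducible A hϖ hϖ'
  have hπ : unitFrac A L ϖ' hϖ'.ne_zero = unitFrac A L ϖ hϖ.ne_zero * unitToFrac A L w :=
    Units.ext (by simp [← hw])
  rw [hπ, ← lmul_symbol, lmul_mul, map_add, lmul_symbol (unitToFrac A L w), cons_units, tame_units, add_zero]
  cases n with
  | zero => rw [tame_lmul_zero, vord_uniformizer, one_zsmul, spec_units]
  | succ n => rw [tame_lmul, tame_units, map_zero, sub_zero, vord_uniformizer, one_zsmul, spec_units]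

omit hϖ in
variable (A L) in
/-- The subgroup generated by symbols of units. -/
noncomputable def unitSub (n : ℕ) : AddSubgroup (K L n) :=
  AddSubgroup.closure {z | ∃ u : Fin n → Aˣ, z = symbol fun i => unitToFrac A L (u i)}

omit hϖ in
theorem symbol_mem_unitSub {n : ℕ} (u : Fin n → Aˣ) :
    symbol (fun i => unitToFrac A L (u i)) ∈ unitSub A L n := AddSubgroup.subset_closure ⟨u, rfl⟩

omit hϖ in
theorem cons_mem_unitSub {n : ℕ} (u : Aˣ) (us : Fin n → Aˣ) :
    lmul n (unitToFrac A L u) (symbol fun i => unitToFrac A L (us i)) ∈ unitSub A L (n + 1) := by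
  rw [lmul_symbol, cons_units]; exact symbol_mem_unitSub _

omit hϖ in
theorem lmul_mem_unitSub {n : ℕ} (u : Aˣ) {x : K L n} (hx : x ∈ unitSub A L n) :
    lmul n (unitToFrac A L u) x ∈ unitSub A L (n + 1) := by
  refine (AddSubgroup.closure_le ((unitSub A L (n + 1)).comap (lmul n (unitToFrac A L u)))).mpr ?_ hx
  rintro _ ⟨us, rfl⟩
  exact cons_mem_unitSub u us

/-- Every class is a combination of unit symbols and symbols `{ϖ, u₁, …}`. -/
theorem gen_induction : ∀ {n : ℕ} (H : AddSubgroup (K L (n + 1))),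
    (∀ u : Fin (n + 1) → Aˣ, symbol (fun i => unitToFrac A L (u i)) ∈ H) →
    (∀ u : Fin n → Aˣ, lmul n (unitFrac A L ϖ hϖ.ne_zero) (symbol fun i => unitToFrac A L (u i)) ∈ H) →
    ∀ x, x ∈ H := by
  intro n
  induction n with
  | zero =>
    intro H h1 h2 x
    refine mem_closure_lmul (fun a z => ?_) x
    obtain ⟨e, u, rfl⟩ := exists_decomp (L := L) hϖ a
    refine mem_of_symbol_mem (H := H.comap (lmul 0 _)) (fun y => ?_) z
    show lmul 0 _ (symbol y) ∈ H
    rw [show y = fun i => unitToFrac A L ((![] : Fin 0 → Aˣ) i) from Subsingleton.elim _ _,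
      lmul_mul, lmul_zpow]
    refine H.add_mem (H.zsmul_mem (h2 _) _) ?_
    rw [lmul_symbol, cons_units]
    exact h1 _
  | succ n ih =>
    intro H h1 h2 x
    refine mem_closure_lmul (fun a z => ?_) x
    refine ih (H.comap (lmul (n + 1) a)) (fun us => ?_) (fun us => ?_) z
    all_goals obtain ⟨e, u, rfl⟩ := exists_decomp (L := L) hϖ a
    · show lmul (n + 1) _ _ ∈ H
      rw [lmul_mul, lmul_zpow]
      refine H.add_mem (H.zsmul_mem (h2 _) _) ?_
      rw [lmul_symbol, cons_units]
      exact h1 _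
    · show lmul (n + 1) _ (lmul n _ _) ∈ H
      rw [lmul_mul, lmul_zpow]
      refine H.add_mem (H.zsmul_mem ?_ _) ?_
      · rw [lmul_lmul_self, ← unitToFrac_neg_one (A := A), lmul_symbol (unitToFrac A L (-1)), cons_units]
        exact h2 _
      · rw [lmul_anticomm, lmul_symbol (unitToFrac A L u), cons_units]
        exact H.neg_mem (h2 _)

theorem tameSymbol_units {n : ℕ} {d : K L (n + 1) →+ K (ResidueField A) n}
    (hd : IsTameSymbol A L n d) (u : Fin (n + 1) → Aˣ) :
    d (symbol fun i => unitToFrac A L (u i)) = 0 := by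
  have hne : Irreducible (ϖ * (u 0 : A)) := (irreducible_mul_units (u 0)).mpr hϖ
  have h1 := hd _ hne (Fin.tail u)
  have h2 := hd _ hϖ (Fin.tail u)
  rw [show unitFrac A L (ϖ * (u 0 : A)) hne.ne_zero = unitFrac A L ϖ hϖ.ne_zero * unitToFrac A L (u 0) from
      Units.ext (by simp), ← lmul_symbol, lmul_mul, map_add, lmul_symbol, h2, add_eq_left,
    lmul_symbol, cons_units, Fin.cons_self_tail] at h1
  exact h1

theorem eq_tame {n : ℕ} {d : K L (n + 1) →+ K (ResidueField A) n} (hd : IsTameSymbol A L n d) :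
    d = tame L hϖ n := by
  ext x
  refine (gen_induction hϖ (d.eqLocus (tame L hϖ n)) (fun u => ?_) (fun u => ?_) x : _)
  · show d _ = tame L hϖ n _
    rw [tameSymbol_units hϖ hd, tame_units]
  · show d _ = tame L hϖ n _
    rw [lmul_symbol, hd _ hϖ u, isTameSymbol_tame hϖ n _ hϖ u]

/-- `s x = d ({-ϖ} x)`. -/
theorem spec_eq_tame {n : ℕ} (x : K L n) :
    spec L hϖ n x = tame L hϖ n (lmul n (-unitFrac A L ϖ hϖ.ne_zero) x) := by
  have hv : vord L hϖ (Additive.ofMul (-unitFrac A L ϖ hϖ.ne_zero)) = 1 := by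
    rw [← neg_one_mul, ofMul_mul, map_add, vord_neg_one, vord_uniformizer, zero_add]
  cases n with
  | zero => rw [tame_lmul_zero, hv, one_zsmul]
  | succ n =>
    rw [tame_lmul, hv, one_zsmul, angC'_apply, hv, zpow_one, ← neg_one_mul (unitFrac A L ϖ _), map_mul,
      angC_neg_one, angC_uniformizer, mul_one, neg_mul_neg, one_mul, lmul_one, sub_zero]

theorem tame_lmul_unit {n : ℕ} (u : Aˣ) (x : K L (n + 1)) :
    tame L hϖ (n + 1) (lmul (n + 1) (unitToFrac A L u) x) = -lmul n (unitResidue A u) (tame L hϖ n x) := by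
  rw [tame_lmul, angC'_apply, vord_unit, zero_zsmul, zero_sub, zpow_zero, one_mul, angC_unit]

end Groth.Agent.MilKLib
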